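import Groth.Agent.Hensel.TrivialFibresAtPrime
import Groth.Agent.RegNormal.Basic

/-!
# Faithfully flat descent of depth, dimension and Serre conditions
-/

set_option autoImplicit false

universe u

open IsLocalRing RingTheory.Sequence

namespace Groth.Agent.FFDesc
open Groth.Agent

/-- Depth is preserved by a flat local extension with zero-dimensional closed fibre, when the depth of
the fibre vanishes. -/
theorem depth_eq_of_minimal {R S : Type u} [CommRing R] [IsLocalRing R] [CommRing S]
    [IsLocalRing S] [Algebra R S] [Module.FaithfullyFlat R S] [IsNoetherianRing R] [IsNoetherianRing S]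
    (h : ∀ Q : Ideal S, Q.IsPrime → (maximalIdeal R).map (algebraMap R S) ≤ Q → Q = maximalIdeal S) :
    LocCoh.depth S S = LocCoh.depth R R := by
  classical
  have hne : maximalIdeal R • (⊤ : Submodule R R) ≠ ⊤ :=
    Depth.smul_top_ne_top_self (maximalIdeal.isMaximal R).ne_top
  have hS : maximalIdeal S • (⊤ : Submodule S S) ≠ ⊤ :=
    Depth.smul_top_ne_top_self (maximalIdeal.isMaximal S).ne_top
  obtain ⟨d, hd⟩ : ∃ d : ℕ, LocCoh.depth R R = d := by
    refine WithTop.ne_top_iff_exists.mp ?_ |>.imp fun d hd ↦ hd.symm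
    intro htop
    obtain ⟨n, hn⟩ := CAlgReg.exists_dim (R := R)
    have := Depth.depth_le_ringKrullDim (R := R) (M := R)
    rw [htop, hn] at this
    exact absurd (WithBot.coe_le_coe.mp (this : _ ≤ ((n : ℕ∞) : WithBot ℕ∞)))
      (not_le.mpr (ENat.natCast_lt_top n))
  obtain ⟨rs, hl, hm, hreg⟩ := (Depth.le_idealDepth_iff_exists hne (n := d)).mp hd.ge
  have hQ := Depth.idealDepth_quot_ofList_add_length rs R hreg hm
  rw [hl] at hQ
  have hQ0 : LocCoh.depth R (R ⧸ Ideal.ofList rs • (⊤ : Submodule R R)) = 0 := by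
    have h' : LocCoh.depth R (R ⧸ Ideal.ofList rs • (⊤ : Submodule R R)) + d = 0 + (d : ℕ∞) := by
      rw [zero_add]; exact hQ.trans hd
    exact (ENat.add_left_injective_of_ne_top (ENat.natCast_ne_top d)) h'
  have hregS : IsWeaklyRegular S (rs.map (algebraMap R S)) := hreg.of_flat
  have hmS : ∀ r ∈ rs.map (algebraMap R S), r ∈ maximalIdeal S := by
    intro r hr
    obtain ⟨a, ha, rfl⟩ := List.mem_map.mp hr
    exact Ideal.map_le_iff_le_comap.2
      (le_of_eq ((local_hom_TFAE (algebraMap R S)).out 0 4 rfl rfl |>.1 inferInstance).symm) (Ideal.mem_map_of_mem _ (hm a ha))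
  have hQS := Depth.idealDepth_quot_ofList_add_length (rs.map (algebraMap R S)) S hregS hmS
  rw [List.length_map, hl] at hQS
  have hle : Ideal.ofList rs ≤ maximalIdeal R := Depth.ofList_le hm
  have hle' : Ideal.ofList (rs.map (algebraMap R S)) ≤ maximalIdeal S := Depth.ofList_le hmS
  have e1 : Ideal.ofList rs • (⊤ : Submodule R R) = Ideal.ofList rs := by
    rw [Ideal.smul_eq_mul]; exact Ideal.mul_top _
  have e2 : Ideal.ofList (rs.map (algebraMap R S)) • (⊤ : Submodule S S) =
      (Ideal.ofList rs).map (algebraMap R S) := by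
    rw [Ideal.smul_eq_mul, Ideal.map_ofList]; exact Ideal.mul_top _
  have hmap : (Ideal.ofList rs).map (algebraMap R S) ≠ ⊤ :=
    fun ht ↦ (maximalIdeal.isMaximal S).ne_top (top_le_iff.mp (ht ▸ Ideal.map_ofList (algebraMap R S) rs ▸ hle'))
  have : Nontrivial (R ⧸ Ideal.ofList rs • (⊤ : Submodule R R)) :=
    Submodule.Quotient.nontrivial_iff.mpr
      (by rw [e1]; exact ne_top_of_le_ne_top (maximalIdeal.isMaximal R).ne_top hle)
  have : Nontrivial (S ⧸ Ideal.ofList (rs.map (algebraMap R S)) • (⊤ : Submodule S S)) :=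
    Submodule.Quotient.nontrivial_iff.mpr (by rw [e2]; exact hmap)
  have hS0 : LocCoh.depth S (S ⧸ Ideal.ofList (rs.map (algebraMap R S)) • (⊤ : Submodule S S)) = 0 := by
    rw [Depth.depth_eq_zero_iff] at hQ0 ⊢
    obtain ⟨-, x, hx⟩ := isAssociatedPrime_iff.mp (AssociatedPrimes.mem_iff.mp hQ0)
    obtain ⟨x, rfl⟩ := Submodule.Quotient.mk_surjective _ x
    have hxJ : x ∉ Ideal.ofList rs := fun hxJ ↦ by
      rw [← e1] at hxJ
      rw [(Submodule.Quotient.mk_eq_zero _).mpr hxJ] at hx
      exact (maximalIdeal.isMaximal R).ne_top (hx.trans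
        (eq_top_iff.mpr fun r _ ↦ by simp [Submodule.mem_colon_singleton]))
    have hmx : ∀ r ∈ maximalIdeal R, r * x ∈ Ideal.ofList rs := fun r hr ↦ by
      rw [hx, Submodule.mem_colon_singleton, ← Submodule.Quotient.mk_smul, Submodule.mem_bot,
        Submodule.Quotient.mk_eq_zero, e1] at hr
      exact hr
    let y : S ⧸ Ideal.ofList (rs.map (algebraMap R S)) • (⊤ : Submodule S S) :=
      Submodule.Quotient.mk (algebraMap R S x)
    have hy : y ≠ 0 := fun hy ↦ by
      rw [Submodule.Quotient.mk_eq_zero, e2, ← Ideal.mem_comap,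
        Ideal.comap_map_eq_self_of_faithfullyFlat] at hy
      exact hxJ hy
    have hkill : (maximalIdeal R).map (algebraMap R S) ≤ (⊥ : Submodule S _).colon {y} := by
      rw [Ideal.map_le_iff_le_comap]
      intro r hr
      rw [Ideal.mem_comap, Submodule.mem_colon_singleton, ← Submodule.Quotient.mk_smul,
        Submodule.mem_bot, Submodule.Quotient.mk_eq_zero, e2, smul_eq_mul, ← map_mul]
      exact Ideal.mem_map_of_mem _ (hmx r hr)
    obtain ⟨Q, hQ, hQle⟩ := exists_le_isAssociatedPrime_of_isNoetherianRing (R := S) y hy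
    exact h Q hQ.isPrime (hkill.trans hQle) ▸ AssociatedPrimes.mem_iff.mpr hQ
  change LocCoh.idealDepth (maximalIdeal S) S = _
  rw [← hQS, hd]
  change LocCoh.depth S _ + _ = _
  rw [hS0, zero_add]

theorem ringKrullDim_eq_of_minimal {R S : Type u} [CommRing R] [IsLocalRing R] [CommRing S]
    [IsLocalRing S] [Algebra R S] [Module.FaithfullyFlat R S] [IsNoetherianRing R] [IsNoetherianRing S]
    (h : ∀ Q : Ideal S, Q.IsPrime → (maximalIdeal R).map (algebraMap R S) ≤ Q → Q = maximalIdeal S) :
    ringKrullDim S = ringKrullDim R := by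
  have hle : (maximalIdeal R).map (algebraMap R S) ≤ maximalIdeal S :=
    le_maximalIdeal fun htop => (maximalIdeal.isMaximal R).ne_top (by
      rw [← Ideal.comap_map_eq_self_of_faithfullyFlat (B := S) (maximalIdeal R), htop, Ideal.comap_top])
  have : (maximalIdeal S).LiesOver (maximalIdeal R) := ⟨(maximalIdeal.isMaximal R).eq_of_le
    (Ideal.comap_ne_top _ (maximalIdeal.isMaximal S).ne_top) (Ideal.map_le_iff_le_comap.mp hle)⟩
  rw [← IsLocalRing.maximalIdeal_height_eq_ringKrullDim,
    ← IsLocalRing.maximalIdeal_height_eq_ringKrullDim,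
    Ideal.height_eq_height_add_of_liesOver_of_hasGoingDown (maximalIdeal R) (maximalIdeal S)]
  let I := (maximalIdeal R).map (algebraMap R S)
  have hprime : ((maximalIdeal S).map (Ideal.Quotient.mk I)).IsPrime :=
    Ideal.map_isPrime_of_surjective Ideal.Quotient.mk_surjective (by rwa [Ideal.mk_ker])
  have h0 : ((maximalIdeal S).map (Ideal.Quotient.mk I)).height = 0 := by
    rw [Ideal.height_eq_zero_iff]
    refine ⟨⟨hprime, bot_le⟩, fun Q ⟨hQ, _⟩ hQle => ?_⟩
    have h1 : Q.comap (Ideal.Quotient.mk I) = maximalIdeal S :=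
      h _ (hQ.comap _) (fun x hx => by
        rw [Ideal.mem_comap, Ideal.Quotient.eq_zero_iff_mem.2 hx]; exact zero_mem _)
    rw [← h1, Ideal.map_comap_of_surjective _ Ideal.Quotient.mk_surjective]
  simp [I, h0]

/-- A prime of `S` minimal over `pS` lying over `p`, with the data of the localized extension. -/
theorem exists_minimal_over (R : Type u) [CommRing R] (S : Type u) [CommRing S] [Algebra R S]
    [Module.FaithfullyFlat R S] (p : Ideal R) [p.IsPrime] :
    ∃ (q : Ideal S) (_ : q.IsPrime) (_ : q.LiesOver p),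
      letI := Localization.AtPrime.algebraOfLiesOver p q
      Module.FaithfullyFlat (Localization.AtPrime p) (Localization.AtPrime q) ∧
        ∀ Q : Ideal (Localization.AtPrime q), Q.IsPrime →
          (maximalIdeal (Localization.AtPrime p)).map
            (algebraMap (Localization.AtPrime p) (Localization.AtPrime q)) ≤ Q →
          Q = maximalIdeal (Localization.AtPrime q) := by
  obtain ⟨⟨P, hP⟩, hPp⟩ := PrimeSpectrum.comap_surjective_of_faithfullyFlat (B := S) ⟨p, ‹_›⟩
  have hPover : P.comap (algebraMap R S) = p := congrArg PrimeSpectrum.asIdeal hPp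
  obtain ⟨q, hq, hqP⟩ := Ideal.exists_minimalPrimes_le (I := p.map (algebraMap R S)) (J := P)
    (Ideal.map_le_iff_le_comap.2 hPover.ge)
  haveI := hq.1.1
  haveI hlies : q.LiesOver p := ⟨le_antisymm (Ideal.map_le_iff_le_comap.1 hq.1.2)
    ((Ideal.comap_mono hqP).trans hPover.le)⟩
  refine ⟨q, inferInstance, hlies, ?_⟩
  letI := Localization.AtPrime.algebraOfLiesOver p q
  haveI : Module.Flat (Localization.AtPrime p) (Localization.AtPrime q) :=
    (Module.flat_iff_of_isLocalization _ p.primeCompl _).mpr inferInstance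
  have hmapeq : (maximalIdeal (Localization.AtPrime p)).map
      (algebraMap (Localization.AtPrime p) (Localization.AtPrime q)) =
      (p.map (algebraMap R S)).map (algebraMap S (Localization.AtPrime q)) := by
    rw [← IsLocalization.AtPrime.map_eq_maximalIdeal p (Localization.AtPrime p),
      Ideal.map_map, Ideal.map_map, ← IsScalarTower.algebraMap_eq, ← IsScalarTower.algebraMap_eq]
  have hle : (maximalIdeal (Localization.AtPrime p)).map
      (algebraMap (Localization.AtPrime p) (Localization.AtPrime q)) ≤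
      maximalIdeal (Localization.AtPrime q) := by
    rw [hmapeq, ← IsLocalization.AtPrime.map_eq_maximalIdeal q (Localization.AtPrime q)]
    exact Ideal.map_mono hq.1.2
  haveI : IsLocalHom (algebraMap (Localization.AtPrime p) (Localization.AtPrime q)) :=
    ((local_hom_TFAE _).out 2 0 rfl rfl).mp hle
  refine ⟨Module.FaithfullyFlat.of_flat_of_isLocalHom, fun Q hQ hQle => ?_⟩
  refine le_antisymm (le_maximalIdeal hQ.ne_top) ?_
  have h1 : Q.comap (algebraMap S (Localization.AtPrime q)) ≤ q := by
    intro x hx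
    by_contra hxq
    exact hQ.ne_top (Ideal.eq_top_of_isUnit_mem _ hx
      (IsLocalization.map_units (M := q.primeCompl) (Localization.AtPrime q) ⟨x, hxq⟩))
  rw [hmapeq, Ideal.map_le_iff_le_comap] at hQle
  have h2 := hq.2 ⟨hQ.comap _, hQle⟩ h1
  rw [← IsLocalization.AtPrime.map_eq_maximalIdeal q (Localization.AtPrime q)]
  exact Ideal.map_le_iff_le_comap.2 h2

theorem hasSk_descent (k : ℕ) (R : Type u) [CommRing R] (S : Type u) [CommRing S] [Algebra R S]
    [Module.FaithfullyFlat R S] [IsNoetherianRing S] (hS : LocCoh.HasSk k S S) :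
    LocCoh.HasSk k R R := by
  haveI := RegNormal.isNoetherianRing_of_faithfullyFlat R S
  intro p _
  obtain ⟨q, hq, hlies, h⟩ := exists_minimal_over R S p
  letI := Localization.AtPrime.algebraOfLiesOver p q
  haveI := h.1
  have := hS q
  rw [Hensel.depth_localizedModule_self, Hensel.supportDim_localizedModule_self,
    depth_eq_of_minimal h.2, ringKrullDim_eq_of_minimal h.2] at this
  rw [Hensel.depth_localizedModule_self, Hensel.supportDim_localizedModule_self]
  exact this

theorem hasRk_descent (k : ℕ) (R : Type u) [CommRing R] (S : Type u) [CommRing S] [Algebra R S]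
    [Module.FaithfullyFlat R S] [IsNoetherianRing S] (hS : LocCoh.HasRk k S)
    (hdesc : ∀ (A : Type u) [CommRing A] [IsLocalRing A] [IsNoetherianRing A] (B : Type u)
      [CommRing B] [IsRegularLocalRing B] [Algebra A B] [IsLocalHom (algebraMap A B)]
      [Module.Flat A B], IsRegularLocalRing A) :
    LocCoh.HasRk k R := by
  haveI := RegNormal.isNoetherianRing_of_faithfullyFlat R S
  intro p _ hp
  obtain ⟨q, hq, hlies, h⟩ := exists_minimal_over R S p
  letI := Localization.AtPrime.algebraOfLiesOver p q
  haveI := h.1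
  have hh : q.height = p.height := by
    have := ringKrullDim_eq_of_minimal h.2
    rw [IsLocalization.AtPrime.ringKrullDim_eq_height q,
      IsLocalization.AtPrime.ringKrullDim_eq_height p] at this
    exact_mod_cast this
  haveI := hS q (hh.le.trans hp)
  haveI : IsLocalHom (algebraMap (Localization.AtPrime p) (Localization.AtPrime q)) :=
    Localization.isLocalHom_localRingHom p q (algebraMap R S) Ideal.LiesOver.over
  exact hdesc _ (Localization.AtPrime q)

end Groth.Agent.FFDesc
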